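import Mathlib
import Cfsg.Prelude.Def_Transfer

set_option autoImplicit false

namespace Cfsg.Agent.LES99T

/-- Transfer argument: `K` of index 2 in `H`, `G = O^2(G)`, `u ∈ H ∖ K` an involution centralized by
the 2-group `P ≤ H`.  Then some coset `xH ≠ H` is fixed by `P`. -/
theorem transfer_fix {G : Type*} [Group G] [Finite G] (hres : Cfsg.pResidual 2 G = ⊤)
    (H K P : Subgroup G) (hKH : K ≤ H) (hKn : ∀ h ∈ H, ∀ k ∈ K, h * k * h⁻¹ ∈ K) (hKi : K.relIndex H = 2)
    (u : G) (hu2 : u * u = 1) (huH : u ∈ H) (huK : u ∉ K)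
    (hP : IsPGroup 2 P) (hPH : P ≤ H) (hPu : ∀ c ∈ P, c * u = u * c) :
    ∃ x : G, x ∉ H ∧ ∀ c ∈ P, x⁻¹ * c * x ∈ H := by
  classical
  haveI : Fact (Nat.Prime 2) := ⟨Nat.prime_two⟩
  have hKi' : (K.subgroupOf H).index = 2 := hKi
  let ϕ : H →* ℤˣ :=
    { toFun := fun s => if (s : G) ∈ K then 1 else -1
      map_one' := by simp [K.one_mem]
      map_mul' := by
        intro a b
        have key := Subgroup.mul_mem_iff_of_index_two hKi' (a := a) (b := b)
        simp only [Subgroup.mem_subgroupOf, Subgroup.coe_mul] at key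
        by_cases ha : (a : G) ∈ K <;> by_cases hb : (b : G) ∈ K <;>
          simp [ha, hb, key] }
  have hϕ_in : ∀ s : H, (s : G) ∈ K → ϕ s = 1 := by
    intro s hs
    show (if (s : G) ∈ K then (1 : ℤˣ) else -1) = 1
    rw [if_pos hs]
  have hϕ_out : ∀ s : H, (s : G) ∉ K → ϕ s = -1 := by
    intro s hs
    show (if (s : G) ∈ K then (1 : ℤˣ) else -1) = -1
    rw [if_neg hs]
  -- the transfer is trivial
  have htriv : ∀ g : G, MonoidHom.transfer ϕ g = 1 := by
    have hker : (MonoidHom.transfer ϕ).ker = ⊤ := by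
      rw [eq_top_iff, ← hres]
      unfold Cfsg.pResidual
      rw [Subgroup.closure_le]
      intro g hg
      have hodd : Odd (orderOf g) := Nat.Coprime.odd_of_right hg
      show g ∈ (MonoidHom.transfer ϕ).ker
      rw [MonoidHom.mem_ker]
      have h1 : (MonoidHom.transfer ϕ g) ^ orderOf g = 1 := by
        rw [← map_pow, pow_orderOf_eq_one, map_one]
      rcases Int.units_eq_one_or (MonoidHom.transfer ϕ g) with h | h
      · exact h
      · rw [h, Odd.neg_one_pow hodd] at h1
        exact absurd h1 (by decide)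
    intro g
    have : g ∈ (MonoidHom.transfer ϕ).ker := by rw [hker]; trivial
    exact MonoidHom.mem_ker.1 this
  -- independence of the representative
  have hrep : ∀ x y : G, (QuotientGroup.mk x : G ⧸ H) = QuotientGroup.mk y →
      (x⁻¹ * u * x ∈ K → y⁻¹ * u * y ∈ K) := by
    intro x y hxy hx
    have hh : x⁻¹ * y ∈ H := QuotientGroup.eq.1 hxy
    have h1 := hKn (x⁻¹ * y)⁻¹ (H.inv_mem hh) _ hx
    have h2 : (x⁻¹ * y)⁻¹ * (x⁻¹ * u * x) * (x⁻¹ * y)⁻¹⁻¹ = y⁻¹ * u * y := by group
    rwa [h2] at h1
  -- the `P`-set `B`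
  let B : SubMulAction P (G ⧸ H) :=
    { carrier := {c | u • c = c ∧ (Quotient.out c)⁻¹ * u * Quotient.out c ∉ K}
      smul_mem' := by
        intro p c hc
        obtain ⟨h1, h2⟩ := hc
        have hpc : (p • c : G ⧸ H) = (p : G) • c := rfl
        refine ⟨?_, ?_⟩
        · rw [hpc, smul_smul, ← hPu p p.2, ← smul_smul, h1]
        · intro h3
          apply h2
          have hmk2 : (QuotientGroup.mk (Quotient.out (p • c)) : G ⧸ H)
              = QuotientGroup.mk ((p : G) * Quotient.out c) := by
            rw [QuotientGroup.out_eq', hpc]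
            conv_lhs => rw [← QuotientGroup.out_eq' c]
            rfl
          have h4 := hrep _ _ hmk2 h3
          have h5 : ((p : G) * Quotient.out c)⁻¹ * u * ((p : G) * Quotient.out c)
              = (Quotient.out c)⁻¹ * u * Quotient.out c := by
            have := hPu p p.2
            calc ((p : G) * Quotient.out c)⁻¹ * u * ((p : G) * Quotient.out c)
                = (Quotient.out c)⁻¹ * ((p : G)⁻¹ * (u * (p : G))) * Quotient.out c := by group
              _ = (Quotient.out c)⁻¹ * ((p : G)⁻¹ * ((p : G) * u)) * Quotient.out c := by rw [this]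
              _ = (Quotient.out c)⁻¹ * u * Quotient.out c := by group
          rwa [h5] at h4 }
  have hBmem : ∀ c : G ⧸ H, c ∈ B ↔
      (u • c = c ∧ (Quotient.out c)⁻¹ * u * Quotient.out c ∉ K) := fun c => Iff.rfl
  -- the transfer formula
  haveI : Fintype (Quotient (MulAction.orbitRel (Subgroup.zpowers u) (G ⧸ H))) :=
    Fintype.ofFinite _
  have hu2' : u ^ 2 = 1 := by rw [pow_two]; exact hu2
  have hper : ∀ c : G ⧸ H, Function.minimalPeriod (u • ·) c = 1 ∨
      Function.minimalPeriod (u • ·) c = 2 := by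
    intro c
    have hp : Function.IsPeriodicPt (u • · : G ⧸ H → _) 2 c := by
      show (u • · : G ⧸ H → _)^[2] c = c
      rw [smul_iterate, hu2']
      exact one_smul _ c
    have := hp.minimalPeriod_dvd
    rcases (Nat.dvd_prime Nat.prime_two).1 this with h | h
    · exact Or.inl h
    · exact Or.inr h
  have hval : ∀ q : Quotient (MulAction.orbitRel (Subgroup.zpowers u) (G ⧸ H)),
      ϕ ⟨q.out.out⁻¹ * u ^ Function.minimalPeriod (u • ·) q.out * q.out.out,
            QuotientGroup.out_conj_pow_minimalPeriod_mem H u q.out⟩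
        = if q.out ∈ B then -1 else 1 := by
    intro q
    rcases hper q.out with h1 | h2
    · have hfix : u • q.out = q.out := Function.minimalPeriod_eq_one_iff_isFixedPt.1 h1
      by_cases hB : q.out ∈ B
      · rw [if_pos hB]
        apply hϕ_out
        show q.out.out⁻¹ * u ^ Function.minimalPeriod (u • ·) q.out * q.out.out ∉ K
        rw [h1, pow_one]
        exact ((hBmem _).1 hB).2
      · rw [if_neg hB]
        apply hϕ_in
        show q.out.out⁻¹ * u ^ Function.minimalPeriod (u • ·) q.out * q.out.out ∈ K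
        rw [h1, pow_one]
        by_contra hnot
        exact hB ((hBmem _).2 ⟨hfix, hnot⟩)
    · have hB : q.out ∉ B := by
        intro hB
        have hfix : u • q.out = q.out := ((hBmem _).1 hB).1
        have := Function.minimalPeriod_eq_one_iff_isFixedPt.2
          (show Function.IsFixedPt (u • · : G ⧸ H → _) q.out from hfix)
        omega
      rw [if_neg hB]
      apply hϕ_in
      show q.out.out⁻¹ * u ^ Function.minimalPeriod (u • ·) q.out * q.out.out ∈ K
      rw [h2, hu2', mul_one, inv_mul_cancel]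
      exact K.one_mem
  have htu := htriv u
  rw [MonoidHom.transfer_eq_prod_quotient_orbitRel_zpowers_quot,
    Finset.prod_congr rfl (fun q _ => hval q), Finset.prod_ite, Finset.prod_const_one,
    Finset.prod_const, mul_one] at htu
  have heven1 : Even (Finset.univ.filter
      (fun q : Quotient (MulAction.orbitRel (Subgroup.zpowers u) (G ⧸ H)) => q.out ∈ B)).card :=
    (neg_one_pow_eq_one_iff_even (by decide)).1 htu
  -- points of `B` correspond to the orbits counted above
  have hfixpow : ∀ c : G ⧸ H, u • c = c → ∀ g : Subgroup.zpowers u, g • c = c := by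
    intro c hc g
    have hle : Subgroup.zpowers u ≤ MulAction.stabilizer G c := by
      rw [Subgroup.zpowers_le]
      exact MulAction.mem_stabilizer_iff.2 hc
    exact MulAction.mem_stabilizer_iff.1 (hle g.2)
  have hcardB : Nat.card B = (Finset.univ.filter
      (fun q : Quotient (MulAction.orbitRel (Subgroup.zpowers u) (G ⧸ H)) => q.out ∈ B)).card := by
    rw [← Fintype.card_subtype, ← Nat.card_eq_fintype_card]
    symm
    apply Nat.card_congr
    refine Equiv.ofBijective
      (fun q : {q : Quotient (MulAction.orbitRel (Subgroup.zpowers u) (G ⧸ H)) // q.out ∈ B} =>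
        (⟨q.1.out, q.2⟩ : B)) ⟨?_, ?_⟩
    · intro q q' hqq
      have h1 : q.1.out = q'.1.out := congrArg Subtype.val hqq
      exact Subtype.ext (Quotient.out_injective h1)
    · rintro ⟨c, hc⟩
      have hcfix : u • c = c := ((hBmem c).1 hc).1
      have hout : (Quotient.mk (MulAction.orbitRel (Subgroup.zpowers u) (G ⧸ H)) c).out = c := by
        have h1 := Quotient.mk_out (s := MulAction.orbitRel (Subgroup.zpowers u) (G ⧸ H)) c
        rw [MulAction.orbitRel_apply] at h1
        obtain ⟨g, hg⟩ := h1
        rw [← hg]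
        exact hfixpow c hcfix g
      refine ⟨⟨Quotient.mk _ c, ?_⟩, ?_⟩
      · rw [hout]; exact hc
      · exact Subtype.ext hout
  have hevenB : Even (Nat.card B) := by rw [hcardB]; exact heven1
  -- fixed points of `P` on `B`
  have hmod := hP.card_modEq_card_fixedPoints B
  have hevenF : Even (Nat.card (MulAction.fixedPoints P B)) := by
    have h1 : Nat.card B % 2 = Nat.card (MulAction.fixedPoints P B) % 2 := hmod
    rw [Nat.even_iff] at hevenB ⊢
    omega
  have hmk1 : (u • (QuotientGroup.mk 1 : G ⧸ H)) = QuotientGroup.mk 1 := by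
    show (QuotientGroup.mk (u * 1) : G ⧸ H) = QuotientGroup.mk 1
    rw [QuotientGroup.eq]
    simpa using huH
  have hb0 : (QuotientGroup.mk 1 : G ⧸ H) ∈ B := by
    rw [hBmem]
    refine ⟨hmk1, ?_⟩
    intro h
    have h1 := hrep _ 1 (QuotientGroup.out_eq' (QuotientGroup.mk 1 : G ⧸ H)) h
    apply huK
    simpa using h1
  have hb0fix : (⟨QuotientGroup.mk 1, hb0⟩ : B) ∈ MulAction.fixedPoints P B := by
    intro p
    apply Subtype.ext
    show ((p : G) • (QuotientGroup.mk 1 : G ⧸ H)) = QuotientGroup.mk 1
    show (QuotientGroup.mk ((p : G) * 1) : G ⧸ H) = QuotientGroup.mk 1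
    rw [QuotientGroup.eq]
    simpa using hPH p.2
  obtain ⟨b, hbfix, hbne⟩ : ∃ b : B, b ∈ MulAction.fixedPoints P B ∧
      b ≠ ⟨QuotientGroup.mk 1, hb0⟩ := by
    by_contra hno
    push Not at hno
    have hsub : Subsingleton (MulAction.fixedPoints P B) := by
      constructor
      intro a b
      apply Subtype.ext
      rw [hno a.1 a.2, hno b.1 b.2]
    haveI : Nonempty (MulAction.fixedPoints P B) := ⟨⟨_, hb0fix⟩⟩
    have h1 : Nat.card (MulAction.fixedPoints P B) = 1 := by
      rw [Nat.card_eq_one_iff_unique]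
      exact ⟨hsub, this⟩
    rw [h1] at hevenF
    exact absurd hevenF (by decide)
  refine ⟨Quotient.out b.1, ?_, ?_⟩
  · intro hx
    apply hbne
    apply Subtype.ext
    show b.1 = QuotientGroup.mk 1
    rw [← QuotientGroup.out_eq' b.1, QuotientGroup.eq]
    simpa using hx
  · intro c hc
    have h1 : (⟨c, hc⟩ : P) • b = b := hbfix ⟨c, hc⟩
    have h2 : (c • b.1 : G ⧸ H) = b.1 := congrArg Subtype.val h1
    have h3 : (QuotientGroup.mk (c * Quotient.out b.1) : G ⧸ H) = QuotientGroup.mk (Quotient.out b.1) := by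
      rw [QuotientGroup.out_eq']
      conv_rhs => rw [← h2]
      conv_rhs => rw [← QuotientGroup.out_eq' b.1]
      rfl
    rw [QuotientGroup.eq] at h3
    have h4 := H.inv_mem h3
    have h5 : ((c * Quotient.out b.1)⁻¹ * Quotient.out b.1)⁻¹ = (Quotient.out b.1)⁻¹ * c * Quotient.out b.1 := by
      group
    rwa [h5] at h4

end Cfsg.Agent.LES99T
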